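import Groth.Agent.Lib.ModTensor.Monoidal
import Mathlib.Algebra.Category.ModuleCat.Presheaf.Generator
import Mathlib.Algebra.Category.ModuleCat.Sheaf.Abelian
import Mathlib.CategoryTheory.Abelian.Subobject
import Mathlib.CategoryTheory.Sites.LeftExact
import Mathlib.Algebra.Category.Grp.FilteredColimits
import Mathlib.Algebra.Category.Grp.Limits
import Mathlib.Algebra.Category.Ring.FilteredColimits
import Mathlib.CategoryTheory.Adjunction.AdjointFunctorTheorems

/-!
# The tensor product of sheaves of modules preserves colimits and has a right adjoint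
-/

universe v₁ u₁ u w w'

open CategoryTheory MonoidalCategory Limits

namespace Groth.Agent.Lib.ModTensor.Adjoint

open Monoidal

section General

variable {C : Type u₁} [Category.{v₁} C] {J : GrothendieckTopology C}
  [J.HasSheafCompose (forget₂ CommRingCat.{u} RingCat.{u})]
  {O : Sheaf J CommRingCat.{u}}
  [J.WEqualsLocallyBijective AddCommGrpCat.{u}] [HasSheafify J AddCommGrpCat.{u}]

instance isLeftAdjoint_L : (L O).IsLeftAdjoint := (adj O).isLeftAdjoint

/-- A functor on sheaves of modules preserves a colimit shape if its composite with sheafification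
does. -/
theorem preservesColimitsOfShape_of_comp {D : Type*} [Category* D] {K : Type w} [Category.{w'} K]
    [HasColimitsOfShape K (PM O)] (T : SheafOfModules.{u} (rs O) ⥤ D)
    [PreservesColimitsOfShape K (L O ⋙ T)] : PreservesColimitsOfShape K T where
  preservesColimit {F} := by
    have : PreservesColimit ((F ⋙ G O) ⋙ L O) T := by
      refine preservesColimit_of_preserves_colimit_cocone
        (isColimitOfPreserves (L O) (colimit.isColimit (F ⋙ G O))) ?_
      exact isColimitOfPreserves (L O ⋙ T) (colimit.isColimit (F ⋙ G O))
    exact preservesColimit_of_iso_diagram T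
      (Functor.associator F (G O) (L O) ≪≫ Functor.isoWhiskerLeft F (counitIso O) ≪≫
        F.rightUnitor)

instance preservesColimitsOfSize_tenRightP (N : PM O) :
    PreservesColimitsOfSize.{u, u} (tenRightP N) :=
  haveI : PreservesColimitsOfSize.{u, u} (L O ⋙ tenRightP N) :=
    preservesColimits_of_natIso (tensorRightCompIso N)
  ⟨fun {_} _ => preservesColimitsOfShape_of_comp _⟩

instance preservesColimitsOfSize_tenLeft (F : SheafOfModules.{u} (rs O)) :
    PreservesColimitsOfSize.{u, u} (tenLeft F) :=
  preservesColimits_of_natIso (tenLeftIsoRight F).symm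

end General

section Small

variable {C : Type u} [SmallCategory C] {J : GrothendieckTopology C}
  {O : Sheaf J CommRingCat.{u}}

/-- The sheafified free presheaves on representables. -/
noncomputable def gen (O : Sheaf J CommRingCat.{u}) (X : C) : SheafOfModules.{u} (rs.{u, u, u} O) :=
  (L O).obj ((PresheafOfModules.free _).obj (yoneda.obj X))

/-- Maps out of `gen O X` are sections over `X`. -/
noncomputable def genEquiv (F : SheafOfModules.{u} (rs.{u, u, u} O)) (X : C) :
    (gen O X ⟶ F) ≃ F.val.obj (Opposite.op X) :=
  ((adj O).homEquiv _ _).trans PresheafOfModules.freeYonedaEquiv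

lemma genEquiv_comp {F H : SheafOfModules.{u} (rs.{u, u, u} O)} {X : C} (φ : gen O X ⟶ F) (ψ : F ⟶ H) :
    genEquiv H X (φ ≫ ψ) = ψ.val.app _ (genEquiv F X φ) := by
  simp only [genEquiv]
  rfl

variable (O) in
lemma isSeparating_gen : (ObjectProperty.ofObj (gen O)).IsSeparating := fun F H f g hfg => by
  ext U x
  obtain ⟨φ, rfl⟩ := (genEquiv F U.unop).surjective x
  have := congrArg (genEquiv H U.unop) (hfg (gen O U.unop) ⟨_⟩ φ)
  rwa [genEquiv_comp, genEquiv_comp] at this

variable (O) in
lemma isDetecting_gen : (ObjectProperty.ofObj (gen O)).IsDetecting :=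
  (isSeparating_gen O).isDetecting

instance wellPowered : WellPowered.{u} (SheafOfModules.{u} (rs.{u, u, u} O)) :=
  wellPowered_of_isDetecting (isDetecting_gen O)

/-- A colimit preserving functor out of sheaves of modules on a small site is a left adjoint. -/
theorem isLeftAdjoint_of_preservesColimits {D : Type*} [Category.{u} D]
    (T : SheafOfModules.{u} (rs.{u, u, u} O) ⥤ D) [PreservesColimitsOfSize.{u, u} T] : T.IsLeftAdjoint :=
  haveI : HasColimitsOfSize.{u, u} (SheafOfModules.{u} (rs.{u, u, u} O)) := inferInstance
  isLeftAdjoint_of_preservesColimits_of_isSeparating (isSeparating_gen O) T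

instance isLeftAdjoint_tenRight (H : SheafOfModules.{u} (rs.{u, u, u} O)) : (tenRight H).IsLeftAdjoint :=
  isLeftAdjoint_of_preservesColimits _

end Small

end Groth.Agent.Lib.ModTensor.Adjoint
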