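import Groth.Prelude.Def_ModSite
import Groth.Agent.Lib.ModTensor.Adjoint

/-!
# The tensor product `ModSite.tensorBi` on a small ringed site
-/

universe u

open CategoryTheory MonoidalCategory Limits

namespace Groth.Agent.Lib.ModTensor.ModSite

open Groth.Agent.Lib.ModTensor.Monoidal Groth.Agent.Lib.ModTensor.Adjoint

variable {C : Type u} [SmallCategory C] {J : GrothendieckTopology C} {O : Sheaf J CommRingCat.{u}}

/-- `tensorBi.obj F` is `F ⊗ -`. -/
noncomputable def tensorBiObjIso (F : ModSite.Mod O) :
    (ModSite.tensorBi O).obj F ≅ tenLeft.{u, u, u} (O := O) F :=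
  NatIso.ofComponents (fun _ => Iso.refl _) (fun f => by simp [ModSite.tensorBi])

/-- `tensorBi.flip.obj H` is `- ⊗ H`. -/
noncomputable def tensorBiFlipIso (H : ModSite.Mod O) :
    (ModSite.tensorBi O).flip.obj H ≅ tenRight.{u, u, u} (O := O) H :=
  NatIso.ofComponents (fun _ => Iso.refl _) (fun f => by simp [ModSite.tensorBi])

/-- The value of `tensorBi`. -/
noncomputable def tensorBiIso (F H : ModSite.Mod O) :
    ((ModSite.tensorBi O).obj F).obj H ≅ ten.{u, u, u} (O := O) F H :=
  Iso.refl _

/-- Commutativity. -/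
noncomputable def commIso (F H : ModSite.Mod O) :
    ((ModSite.tensorBi O).obj F).obj H ≅ ((ModSite.tensorBi O).obj H).obj F :=
  tenComm F H

/-- Commutativity, naturally in one variable. -/
noncomputable def flipObjIso (F : ModSite.Mod O) :
    (ModSite.tensorBi O).flip.obj F ≅ (ModSite.tensorBi O).obj F :=
  tensorBiFlipIso F ≪≫ (tenLeftIsoRight F).symm ≪≫ (tensorBiObjIso F).symm

/-- The structure sheaf is a unit. -/
noncomputable def flipUnitIso : (ModSite.tensorBi O).flip.obj (ModSite.unit O) ≅ 𝟭 _ :=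
  tensorBiFlipIso _ ≪≫ tenRightUnitIso.{u, u, u} (O := O)

/-- Associativity. -/
noncomputable def flipCompIso (H K : ModSite.Mod O) :
    (ModSite.tensorBi O).flip.obj H ⋙ (ModSite.tensorBi O).flip.obj K ≅
      (ModSite.tensorBi O).flip.obj (((ModSite.tensorBi O).obj H).obj K) :=
  Functor.isoWhiskerRight (tensorBiFlipIso H) _ ≪≫
    Functor.isoWhiskerLeft _ (tensorBiFlipIso K) ≪≫ tenRightComp H K ≪≫
      (tensorBiFlipIso (ten.{u, u, u} (O := O) H K)).symm

instance preservesColimits_flip (F : ModSite.Mod O) :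
    PreservesColimitsOfSize.{u, u} ((ModSite.tensorBi O).flip.obj F) :=
  preservesColimits_of_natIso (tensorBiFlipIso F).symm

instance preservesColimits_obj (F : ModSite.Mod O) :
    PreservesColimitsOfSize.{u, u} ((ModSite.tensorBi O).obj F) :=
  preservesColimits_of_natIso (tensorBiObjIso F).symm

theorem hasSheafHom (F : ModSite.Mod O) : ModSite.HasSheafHom F :=
  isLeftAdjoint_of_preservesColimits _

end Groth.Agent.Lib.ModTensor.ModSite
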