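import Groth.Agent.Lib.ModTensor.Flat
import Mathlib.Algebra.Homology.ShortComplex.ExactFunctor
import Mathlib.CategoryTheory.Retract

/-!
# Flatness is preservation of monomorphisms; retracts, short exact sequences
-/

universe u

open CategoryTheory Limits

namespace Groth.Agent.Lib.ModTensor.FlatMono

variable {C : Type u} [SmallCategory C] {J : GrothendieckTopology C} {O : Sheaf J CommRingCat.{u}}

open Groth.Agent.Lib.ModTensor.ModSite

instance additive_flip (F : _root_.ModSite.Mod O) :
    ((_root_.ModSite.tensorBi O).flip.obj F).Additive :=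
  haveI : ((_root_.ModSite.tensorBi O).flip.obj F).IsLeftAdjoint := hasSheafHom F
  haveI := preservesBinaryBiproducts_of_preservesBinaryCoproducts
    ((_root_.ModSite.tensorBi O).flip.obj F)
  Functor.additive_of_preservesBinaryBiproducts _

/-- A right exact functor between abelian categories which preserves monos is left exact. -/
theorem preservesFiniteLimits_of_mono {A B : Type*} [Category A] [Category B] [Abelian A] [Abelian B]
    (T : A ⥤ B) [T.Additive] [PreservesFiniteColimits T]
    (h : ∀ ⦃X Y : A⦄ (f : X ⟶ Y), Mono f → Mono (T.map f)) : PreservesFiniteLimits T := by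
  haveI : T.PreservesMonomorphisms := ⟨fun f hf => h f hf⟩
  haveI := Functor.preservesHomology_of_preservesMonos_and_cokernels T
  exact Functor.preservesFiniteLimits_of_preservesHomology _

theorem isFlat_iff_mono (F : _root_.ModSite.Mod O) :
    _root_.ModSite.IsFlat F ↔ ∀ ⦃X Y : _root_.ModSite.Mod O⦄ (f : X ⟶ Y), Mono f →
      Mono (((_root_.ModSite.tensorBi O).flip.obj F).map f) := by
  refine ⟨fun h X Y f hf => ?_, fun h => ?_⟩
  · haveI := h.1
    infer_instance
  · haveI : PreservesFiniteColimits ((_root_.ModSite.tensorBi O).flip.obj F) :=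
      PreservesColimitsOfSize.preservesFiniteColimits _
    exact ⟨preservesFiniteLimits_of_mono _ h, inferInstance⟩

theorem isFlat_of_retract {M N : _root_.ModSite.Mod O} (r : Retract M N)
    (hN : _root_.ModSite.IsFlat N) : _root_.ModSite.IsFlat M := by
  rw [isFlat_iff_mono] at hN ⊢
  intro X Y f hf
  haveI := hN f hf
  let T := (_root_.ModSite.tensorBi O).flip
  have e : (T.map r.i).app X ≫ (T.map r.r).app X = 𝟙 _ := by
    rw [← NatTrans.comp_app, ← T.map_comp, r.retract, T.map_id]
    rfl
  haveI : Mono ((T.map r.i).app X) := mono_of_mono_fac e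
  have : (T.obj M).map f ≫ (T.map r.i).app Y = (T.map r.i).app X ≫ (T.obj N).map f :=
    (T.map r.i).naturality f
  haveI : Mono ((T.obj M).map f ≫ (T.map r.i).app Y) := by rw [this]; infer_instance
  exact mono_of_mono _ ((T.map r.i).app Y)

end Groth.Agent.Lib.ModTensor.FlatMono
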