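import Groth.Agent.Lib.ModTensor.ModSite
import Groth.Agent.Lib.DerivedOX.Grothendieck
import Mathlib.CategoryTheory.Abelian.GrothendieckAxioms.Basic
import Mathlib.CategoryTheory.Abelian.GrothendieckAxioms.Colim
import Mathlib.CategoryTheory.Limits.FunctorCategory.Basic

/-!
# Flat sheaves of modules: tensor products, exact colimits
-/

universe u w w'

open CategoryTheory Limits

namespace Groth.Agent.Lib.ModTensor.Flat

variable {C : Type u} [SmallCategory C] {J : GrothendieckTopology C} (O : Sheaf J CommRingCat.{u})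

open Groth.Agent.Lib.ModTensor.ModSite

/-- Only left exactness has to be checked for flatness. -/
theorem isFlat_iff {F : _root_.ModSite.Mod O} :
    _root_.ModSite.IsFlat F ↔ PreservesFiniteLimits ((_root_.ModSite.tensorBi O).flip.obj F) := by
  refine ⟨fun h => h.1, fun h => ⟨h, ⟨fun K _ _ => ?_⟩⟩⟩
  haveI := hasSheafHom F
  exact (_root_.ModSite.sheafHomAdj F).leftAdjoint_preservesColimits.preservesColimitsOfShape

theorem isFlat_of_iso {F F' : _root_.ModSite.Mod O} (e : F ≅ F') (h : _root_.ModSite.IsFlat F) :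
    _root_.ModSite.IsFlat F' :=
  ⟨haveI := h.1; preservesFiniteLimits_of_natIso ((_root_.ModSite.tensorBi O).flip.mapIso e),
    haveI := h.2; preservesFiniteColimits_of_natIso ((_root_.ModSite.tensorBi O).flip.mapIso e)⟩

theorem isFlat_unit : _root_.ModSite.IsFlat (_root_.ModSite.unit O) :=
  ⟨preservesFiniteLimits_of_natIso flipUnitIso.symm,
    preservesFiniteColimits_of_natIso flipUnitIso.symm⟩

theorem isFlat_tensor (G F : _root_.ModSite.Mod O) (hG : _root_.ModSite.IsFlat G)
    (hF : _root_.ModSite.IsFlat F) :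
    _root_.ModSite.IsFlat (((_root_.ModSite.tensorBi O).obj G).obj F) := by
  have := hG.1; have := hG.2; have := hF.1; have := hF.2
  constructor
  · exact preservesFiniteLimits_of_natIso (flipCompIso G F)
  · exact preservesFiniteColimits_of_natIso (flipCompIso G F)

/-- An exact colimit of flat modules is flat. -/
theorem isFlat_of_isColimit {I : Type w} [Category.{w'} I]
    [HasColimitsOfShape I (_root_.ModSite.Mod O)]
    [HasExactColimitsOfShape I (_root_.ModSite.Mod O)]
    (hpres : ∀ M, PreservesColimitsOfShape I ((_root_.ModSite.tensorBi O).obj M))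
    (D : I ⥤ _root_.ModSite.Mod O) (hD : ∀ i, _root_.ModSite.IsFlat (D.obj i))
    (c : Cocone D) (hc : IsColimit c) : _root_.ModSite.IsFlat c.pt := by
  rw [isFlat_iff]
  let T := _root_.ModSite.tensorBi O
  let Φ : _root_.ModSite.Mod O ⥤ (I ⥤ _root_.ModSite.Mod O) := (D ⋙ T.flip).flip
  have hc' : IsColimit (T.flip.mapCocone c) :=
    evaluationJointlyReflectsColimits _ fun M =>
      haveI := hpres M
      isColimitOfPreserves (T.obj M) hc
  have : PreservesFiniteLimits Φ := ⟨fun K _ _ => preservesLimitsOfShape_of_evaluation Φ K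
    (fun i => show PreservesLimitsOfShape K (T.flip.obj (D.obj i)) from
      haveI := (hD i).1; inferInstance)⟩
  let e : T.flip.obj c.pt ≅ Φ ⋙ colim :=
    hc'.coconePointUniqueUpToIso (colimit.isColimit _) ≪≫ colimitIsoFlipCompColim _
  exact preservesFiniteLimits_of_natIso e.symm

theorem isFlat_of_isColimit_filtered {I : Type u} [SmallCategory I] [IsFiltered I]
    (D : I ⥤ _root_.ModSite.Mod O) (hD : ∀ i, _root_.ModSite.IsFlat (D.obj i))
    (c : Cocone D) (hc : IsColimit c) : _root_.ModSite.IsFlat c.pt := by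
  haveI := Groth.Agent.Lib.DerivedOX.Grothendieck.isGrothendieckAbelian_sheafOfModules
    (_root_.ModSite.ringSh O)
  haveI : HasExactColimitsOfShape I (_root_.ModSite.Mod O) := AB5OfSize.ofShape I
  exact isFlat_of_isColimit O (fun _ => inferInstance) D hD c hc

theorem hasExactColimitsOfShape_discrete (ι : Type u) :
    HasExactColimitsOfShape (Discrete ι) (_root_.ModSite.Mod O) := by
  haveI := Groth.Agent.Lib.DerivedOX.Grothendieck.isGrothendieckAbelian_sheafOfModules
    (_root_.ModSite.ringSh O)
  haveI : HasFiniteBiproducts (_root_.ModSite.Mod O) :=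
    Abelian.hasFiniteBiproducts
  haveI : AB4OfSize.{u} (_root_.ModSite.Mod O) := AB4.of_AB5 _
  exact AB4OfSize.ofShape ι

theorem isFlat_of_isColimit_discrete {ι : Type u} (F : ι → _root_.ModSite.Mod O)
    (hF : ∀ i, _root_.ModSite.IsFlat (F i)) (c : Cofan F) (hc : IsColimit c) :
    _root_.ModSite.IsFlat c.pt := by
  haveI := hasExactColimitsOfShape_discrete O ι
  exact isFlat_of_isColimit O (fun _ => inferInstance) (Discrete.functor F) (fun i => hF i.as) c hc

end Groth.Agent.Lib.ModTensor.Flat
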