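import Groth.Agent.Lib.ModTensor.ModSite

/-!
# Invertible modules on a ringed site
-/

universe u

open CategoryTheory Limits

namespace Groth.Agent.Lib.ModTensor.Invertible

open Groth.Agent.Lib.ModTensor.ModSite

variable {C : Type u} [SmallCategory C] {J : GrothendieckTopology C} {O : Sheaf J CommRingCat.{u}}

theorem isEquivalence_flip_iff (L : _root_.ModSite.Mod O) :
    ((_root_.ModSite.tensorBi O).flip.obj L).IsEquivalence ↔
      ((_root_.ModSite.tensorBi O).obj L).IsEquivalence :=
  ⟨fun _ => Functor.isEquivalence_of_iso (flipObjIso L),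
    fun _ => Functor.isEquivalence_of_iso (flipObjIso L).symm⟩

theorem exists_inv {L : _root_.ModSite.Mod O} (hL : ((_root_.ModSite.tensorBi O).obj L).IsEquivalence) :
    ∃ L', Nonempty (((_root_.ModSite.tensorBi O).obj L).obj L' ≅ _root_.ModSite.unit O) :=
  haveI := hL
  ⟨_, ⟨((_root_.ModSite.tensorBi O).obj L).objObjPreimageIso (_root_.ModSite.unit O)⟩⟩

theorem isEquivalence_of_inv {L L' : _root_.ModSite.Mod O}
    (e : ((_root_.ModSite.tensorBi O).obj L).obj L' ≅ _root_.ModSite.unit O) :
    ((_root_.ModSite.tensorBi O).obj L).IsEquivalence := by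
  rw [← isEquivalence_flip_iff]
  let a : (_root_.ModSite.tensorBi O).flip.obj L ⋙ (_root_.ModSite.tensorBi O).flip.obj L' ≅ 𝟭 _ :=
    flipCompIso L L' ≪≫ (_root_.ModSite.tensorBi O).flip.mapIso e ≪≫ flipUnitIso
  let b : (_root_.ModSite.tensorBi O).flip.obj L' ⋙ (_root_.ModSite.tensorBi O).flip.obj L ≅ 𝟭 _ :=
    flipCompIso L' L ≪≫ (_root_.ModSite.tensorBi O).flip.mapIso (commIso L' L ≪≫ e) ≪≫ flipUnitIso
  exact (CategoryTheory.Equivalence.mk ((_root_.ModSite.tensorBi O).flip.obj L)
    ((_root_.ModSite.tensorBi O).flip.obj L') a.symm b).isEquivalence_functor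

theorem isEquivalence_tensor {L N : _root_.ModSite.Mod O}
    (hL : ((_root_.ModSite.tensorBi O).obj L).IsEquivalence)
    (hN : ((_root_.ModSite.tensorBi O).obj N).IsEquivalence) :
    ((_root_.ModSite.tensorBi O).obj (((_root_.ModSite.tensorBi O).obj L).obj N)).IsEquivalence := by
  rw [← isEquivalence_flip_iff] at hL hN ⊢
  exact Functor.isEquivalence_of_iso (flipCompIso L N)

end Groth.Agent.Lib.ModTensor.Invertible
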