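import Mathlib.Algebra.Category.ModuleCat.Presheaf.Monoidal
import Mathlib.Algebra.Category.ModuleCat.Sheaf
import Mathlib.LinearAlgebra.TensorProduct.Vanishing
import Mathlib.RingTheory.TensorProduct.DirectLimitFG
import Mathlib.CategoryTheory.Sites.LocallyBijective

/-!
# Tensoring a locally bijective morphism of presheaves of modules

For any Grothendieck topology and any presheaf of commutative rings, if `f : M ⟶ M'` is locally
injective and locally surjective, then so are `f ▷ N` and `N ◁ f`; locally surjective is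
preserved separately.
-/

universe v₁ u₁ u

open CategoryTheory MonoidalCategory Opposite TensorProduct

namespace Groth.Agent.Lib.ModTensor.Local

section Algebra

variable {R : Type*} [CommRing R] {N : Type*} [AddCommGroup N] [Module R N]
  {P : Type*} [AddCommGroup P] [Module R P]

/-- A vanishing sum of pure tensors vanishes trivially after adding finitely many zero terms. -/
lemma exists_vanishesTrivially_sumElim {n : ℕ} (a : Fin n → N) (b : Fin n → P)
    (h : ∑ i, a i ⊗ₜ[R] b i = 0) :
    ∃ (L : ℕ) (c : Fin L → N),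
      VanishesTrivially R (Sum.elim a c) (Sum.elim b (fun _ => (0 : P))) := by
  let P₀ : Submodule R N := Submodule.span R (Set.range a)
  have hP₀ : P₀.FG := Submodule.fg_span (Set.finite_range a)
  let a₀ : Fin n → P₀ := fun i => ⟨a i, Submodule.subset_span ⟨i, rfl⟩⟩
  have ht : LinearMap.rTensor P P₀.subtype (∑ i, a₀ i ⊗ₜ[R] b i) = 0 := by
    simpa [map_sum, LinearMap.rTensor_tmul, a₀] using h
  obtain ⟨Q, hPQ, hQ, hQ0⟩ := TensorProduct.eq_zero_of_fg_of_subtype_eq_zero hP₀ ht
  obtain ⟨L, c, hc⟩ := Submodule.fg_iff_exists_fin_generating_family.1 hQ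
  let a' : Fin n → Q := fun i => Submodule.inclusion hPQ (a₀ i)
  let c' : Fin L → Q := fun l => ⟨c l, hc ▸ Submodule.subset_span ⟨l, rfl⟩⟩
  have hspan : Submodule.span R (Set.range (Sum.elim a' c')) = ⊤ := by
    apply Submodule.map_injective_of_injective (f := Q.subtype) Q.injective_subtype
    rw [Submodule.map_span, Submodule.map_top, Submodule.range_subtype, ← Set.range_comp]
    refine le_antisymm (Submodule.span_le.2 ?_) ?_
    · rintro _ ⟨i, rfl⟩
      exact (Sum.elim a' c' i).2
    · conv_lhs => rw [← hc]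
      apply Submodule.span_mono
      rintro _ ⟨l, rfl⟩
      exact ⟨Sum.inr l, rfl⟩
  obtain ⟨k, A, y, hy, hA⟩ := TensorProduct.vanishesTrivially_of_sum_tmul_eq_zero R
    (n := Sum.elim b (fun _ => (0 : P))) hspan (by
      simpa [Fintype.sum_sum_type, a', map_sum, LinearMap.rTensor_tmul] using hQ0)
  refine ⟨L, c, k, A, y, hy, fun j => ?_⟩
  have := congrArg Q.subtype (hA j)
  simp only [map_sum, map_smul, map_zero] at this
  convert this using 3 with i
  cases i <;> rfl

end Algebra

variable {C : Type u₁} [Category.{v₁} C] (J : GrothendieckTopology C) {R : Cᵒᵖ ⥤ CommRingCat.{u}}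

/-- Restriction maps of a presheaf of modules, as additive maps. -/
noncomputable def res (M : PresheafOfModules.{u} (R ⋙ forget₂ _ RingCat)) {X Y : Cᵒᵖ}
    (g : X ⟶ Y) : M.obj X →+ M.obj Y :=
  (M.presheaf.map g).hom

lemma res_apply (M : PresheafOfModules.{u} (R ⋙ forget₂ _ RingCat)) {X Y : Cᵒᵖ}
    (g : X ⟶ Y) (m : M.obj X) : res M g m = M.map g m := rfl

lemma res_smul (M : PresheafOfModules.{u} (R ⋙ forget₂ _ RingCat)) {X Y : Cᵒᵖ}
    (g : X ⟶ Y) (r : R.obj X) (m : M.obj X) :
    res M g (r • m) = (R.map g).hom r • res M g m :=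
  M.map_smul g r m

lemma res_comp (M : PresheafOfModules.{u} (R ⋙ forget₂ _ RingCat)) {X Y Z : Cᵒᵖ}
    (g : X ⟶ Y) (h : Y ⟶ Z) (m : M.obj X) :
    res M (g ≫ h) m = res M h (res M g m) := by
  simp only [res, Functor.map_comp]
  rfl

lemma res_app {M M' : PresheafOfModules.{u} (R ⋙ forget₂ _ RingCat)} (f : M ⟶ M')
    {X Y : Cᵒᵖ} (g : X ⟶ Y) (m : M.obj X) :
    f.app Y (res M g m) = res M' g (f.app X m) :=
  PresheafOfModules.naturality_apply f g m

variable {M M' : PresheafOfModules.{u} (R ⋙ forget₂ _ RingCat)}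

/-- The tensor product of two sections. -/
noncomputable def tm (M N : PresheafOfModules.{u} (R ⋙ forget₂ _ RingCat)) {X : Cᵒᵖ}
    (m : M.obj X) (n : N.obj X) : (M ⊗ N).obj X :=
  m ⊗ₜ[R.obj X] n

lemma res_tm (M N : PresheafOfModules.{u} (R ⋙ forget₂ _ RingCat)) {X Y : Cᵒᵖ}
    (g : X ⟶ Y) (m : M.obj X) (n : N.obj X) :
    res (M ⊗ N) g (tm M N m n) = tm M N (res M g m) (res N g n) := rfl

lemma whiskerRight_tm (f : M ⟶ M') (N : PresheafOfModules.{u} (R ⋙ forget₂ _ RingCat))
    {X : Cᵒᵖ} (m : M.obj X) (n : N.obj X) :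
    (f ▷ N).app X (tm M N m n) = tm M' N (f.app X m) n := rfl

lemma exists_sum_tm {N : PresheafOfModules.{u} (R ⋙ forget₂ _ RingCat)} {X : Cᵒᵖ}
    (z : (M ⊗ N).obj X) :
    ∃ (n : ℕ) (a : Fin n → M.obj X) (b : Fin n → N.obj X), z = ∑ i, tm M N (a i) (b i) :=
  TensorProduct.exists_sum_tmul_eq (R := R.obj X) (M := M.obj X) (N := N.obj X) z

/-- Finitely many sections of the target of a locally surjective map lift on a covering sieve. -/
lemma exists_cover_lift (f : M ⟶ M') [PresheafOfModules.IsLocallySurjective J f] {X : Cᵒᵖ}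
    {ι : Type*} [Finite ι] (a : ι → M'.obj X) :
    ∃ S ∈ J X.unop, ∀ ⦃Y : C⦄ (g : Y ⟶ X.unop), S g →
      ∃ x : ι → M.obj (op Y), ∀ i, f.app (op Y) (x i) = res M' g.op (a i) := by
  classical
  have := Fintype.ofFinite ι
  let T (i : ι) : Sieve X.unop :=
    Presheaf.imageSieve (U := X.unop) ((PresheafOfModules.toPresheaf _).map f) (a i)
  refine ⟨Finset.univ.inf T, ?_, fun Y g hg => ?_⟩
  · induction (Finset.univ : Finset ι) using Finset.induction with
    | empty => simp
    | insert i s _ ih =>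
      rw [Finset.inf_insert]
      exact J.intersection_covering (Presheaf.imageSieve_mem J _ _) ih
  · have h (i : ι) : T i g :=
      (Finset.inf_le (Finset.mem_univ i) : Finset.univ.inf T ≤ T i) g hg
    exact ⟨fun i => (h i).choose, fun i => (h i).choose_spec⟩

/-- Finitely many sections killed by a locally injective map vanish on a covering sieve. -/
lemma exists_cover_zero (f : M ⟶ M') [PresheafOfModules.IsLocallyInjective J f] {X : Cᵒᵖ}
    {ι : Type*} [Finite ι] (a : ι → M.obj X) (ha : ∀ i, f.app X (a i) = 0) :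
    ∃ S ∈ J X.unop, ∀ ⦃Y : C⦄ (g : Y ⟶ X.unop), S g → ∀ i, res M g.op (a i) = 0 := by
  classical
  have := Fintype.ofFinite ι
  let T (i : ι) : Sieve X.unop :=
    Presheaf.equalizerSieve (F := M.presheaf) (a i) (0 : M.obj X)
  refine ⟨Finset.univ.inf T, ?_, fun Y g hg i => ?_⟩
  · induction (Finset.univ : Finset ι) using Finset.induction with
    | empty => simp
    | insert i s _ ih =>
      rw [Finset.inf_insert]
      refine J.intersection_covering (Presheaf.equalizerSieve_mem J
        ((PresheafOfModules.toPresheaf _).map f) (X := X) _ _ ?_) ih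
      exact (ha i).trans (map_zero (f.app X).hom).symm
  · have h : T i g := (Finset.inf_le (Finset.mem_univ i) : Finset.univ.inf T ≤ T i) g hg
    exact (show res M g.op (a i) = res M g.op 0 from h).trans (map_zero _)

theorem isLocallySurjective_whiskerRight (f : M ⟶ M')
    [PresheafOfModules.IsLocallySurjective J f]
    (N : PresheafOfModules.{u} (R ⋙ forget₂ _ RingCat)) :
    PresheafOfModules.IsLocallySurjective J (f ▷ N) := by
  refine ⟨fun {U} s => ?_⟩
  obtain ⟨n, a, b, hs⟩ := exists_sum_tm (M := M') (N := N) (X := op U) s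
  obtain ⟨S, hS, hlift⟩ := exists_cover_lift J f a
  refine J.superset_covering (fun Y g hg => ?_) hS
  obtain ⟨x, hx⟩ := hlift g hg
  refine ⟨∑ i, tm M N (x i) (res N g.op (b i)), ?_⟩
  change (f ▷ N).app (op Y) _ = res (M' ⊗ N) g.op s
  rw [hs, map_sum]
  refine (map_sum ((f ▷ N).app (op Y)).hom _ _).trans ?_
  exact Finset.sum_congr rfl fun i _ => by rw [whiskerRight_tm, hx, res_tm]

theorem isLocallyInjective_whiskerRight (f : M ⟶ M')
    [PresheafOfModules.IsLocallySurjective J f] [PresheafOfModules.IsLocallyInjective J f]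
    (N : PresheafOfModules.{u} (R ⋙ forget₂ _ RingCat)) :
    PresheafOfModules.IsLocallyInjective J (f ▷ N) := by
  refine ⟨fun {X} z z' h => ?_⟩
  -- reduce to a single section killed by `f ▷ N`
  suffices H : ∀ w : (M ⊗ N).obj X, (f ▷ N).app X w = 0 →
      ∃ S ∈ J X.unop, ∀ ⦃Y : C⦄ (g : Y ⟶ X.unop), S g → res (M ⊗ N) g.op w = 0 by
    obtain ⟨S, hS, h0⟩ := H (show (M ⊗ N).obj X from (z : (M ⊗ N).obj X) - z')
      ((map_sub ((f ▷ N).app X).hom _ _).trans (sub_eq_zero.2 h))
    refine J.superset_covering (fun Y g hg => ?_) hS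
    exact sub_eq_zero.1 ((map_sub (res (M ⊗ N) g.op) _ _).symm.trans (h0 g hg))
  intro w hw
  obtain ⟨n, a, b, rfl⟩ := exists_sum_tm w
  rw [map_sum] at hw
  simp only [whiskerRight_tm] at hw
  obtain ⟨L, c, k, A, y, hy, hA⟩ := exists_vanishesTrivially_sumElim (R := R.obj X) b
    (fun i => (f.app X (a i) : M'.obj X)) (by
      apply (TensorProduct.comm (R.obj X) (N.obj X) (M'.obj X)).injective
      rw [map_zero, map_sum]
      exact hw)
  obtain ⟨S, hS, hlift⟩ := exists_cover_lift J f y
  let Good : Sieve X.unop :=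
    Presheaf.equalizerSieve (F := (M ⊗ N).presheaf) (∑ i, tm M N (a i) (b i)) (0 : (M ⊗ N).obj X)
  refine ⟨Good, J.transitive hS Good (fun Y g hg => ?_),
    fun Y g hg => (show res (M ⊗ N) g.op _ = res (M ⊗ N) g.op 0 from hg).trans (map_zero _)⟩
  obtain ⟨x, hx⟩ := hlift g hg
  let aY : Fin n ⊕ Fin L → M.obj (op Y) := fun i =>
    res M g.op (Sum.elim a (fun _ => 0) i) - ∑ j, (R.map g.op).hom (A i j) • x j
  have hlin (i : Fin n ⊕ Fin L) :
      f.app X (Sum.elim a (fun _ => (0 : M.obj X)) i) =
        Sum.elim (fun i => (f.app X (a i) : M'.obj X)) (fun _ => 0) i := by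
    cases i
    · rfl
    · exact map_zero (f.app X).hom
  obtain ⟨T, hT, hzero⟩ := exists_cover_zero J f aY (fun i => by
    simp only [aY, map_sub, map_sum, res_app, hlin, hy i]
    rw [sub_eq_zero]
    refine Finset.sum_congr rfl fun j _ => ?_
    refine (res_smul M' g.op (A i j) (y j)).trans ?_
    rw [← hx]
    exact ((f.app (op Y)).hom.map_smul ((R.map g.op).hom (A i j)) (x j)).symm)
  refine J.superset_covering (fun Z h hh => ?_) hT
  change res (M ⊗ N) (h ≫ g).op _ = res (M ⊗ N) (h ≫ g).op 0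
  rw [op_comp, map_zero]
  refine (res_comp (M ⊗ N) g.op h.op _).trans ?_
  have ha (i : Fin n ⊕ Fin L) : res M h.op (res M g.op (Sum.elim a (fun _ => 0) i)) =
      ∑ j, (R.map h.op).hom ((R.map g.op).hom (A i j)) • res M h.op (x j) := by
    have := hzero h hh i
    simp only [aY, map_sub, map_sum, res_smul] at this
    exact sub_eq_zero.1 this
  have hc (j : Fin k) : ∑ i, (R.map h.op).hom ((R.map g.op).hom (A i j)) •
      res N h.op (res N g.op (Sum.elim b c i)) = 0 := by
    have := congrArg (fun t => res N h.op (res N g.op t)) (hA j)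
    simpa only [map_sum, res_smul, map_zero] using this
  have key : ∑ i, res M h.op (res M g.op (Sum.elim a (fun _ => 0) i)) ⊗ₜ[R.obj (op Z)]
      res N h.op (res N g.op (Sum.elim b c i)) = 0 := by
    simp only [ha, TensorProduct.sum_tmul, TensorProduct.smul_tmul]
    rw [Finset.sum_comm]
    refine Finset.sum_eq_zero fun j _ => ?_
    rw [← TensorProduct.tmul_sum, hc, TensorProduct.tmul_zero]
  rw [Fintype.sum_sum_type] at key
  simp only [Sum.elim_inl, Sum.elim_inr, map_zero, TensorProduct.zero_tmul,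
    Finset.sum_const_zero, add_zero] at key
  refine (congrArg (res (M ⊗ N) h.op) (map_sum (res (M ⊗ N) g.op) _ _)).trans ?_
  exact (map_sum (res (M ⊗ N) h.op) _ _).trans key

/-- `N ◁ f` is `f ▷ N` conjugated by the braiding. -/
lemma whiskerLeft_eq (f : M ⟶ M') (N : PresheafOfModules.{u} (R ⋙ forget₂ _ RingCat)) :
    N ◁ f = (β_ N M).hom ≫ (f ▷ N) ≫ (β_ M' N).hom := by
  rw [← BraidedCategory.braiding_naturality_right_assoc]
  simp

theorem isLocallySurjective_whiskerLeft (f : M ⟶ M')
    [PresheafOfModules.IsLocallySurjective J f]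
    (N : PresheafOfModules.{u} (R ⋙ forget₂ _ RingCat)) :
    PresheafOfModules.IsLocallySurjective J (N ◁ f) := by
  have := isLocallySurjective_whiskerRight J f N
  rw [whiskerLeft_eq]
  unfold PresheafOfModules.IsLocallySurjective at *
  rw [Functor.map_comp, Functor.map_comp]
  infer_instance

theorem isLocallyInjective_whiskerLeft (f : M ⟶ M')
    [PresheafOfModules.IsLocallySurjective J f] [PresheafOfModules.IsLocallyInjective J f]
    (N : PresheafOfModules.{u} (R ⋙ forget₂ _ RingCat)) :
    PresheafOfModules.IsLocallyInjective J (N ◁ f) := by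
  have := isLocallyInjective_whiskerRight J f N
  rw [whiskerLeft_eq]
  unfold PresheafOfModules.IsLocallyInjective at *
  rw [Functor.map_comp, Functor.map_comp]
  infer_instance

end Groth.Agent.Lib.ModTensor.Local
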