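import Groth.Agent.Lib.ModTensor.Local
import Mathlib.Algebra.Category.ModuleCat.Sheaf.Localization
import Mathlib.Algebra.Category.ModuleCat.Sheaf.Colimits
import Mathlib.Algebra.Category.Ring.Limits

/-!
# The tensor product of sheaves of modules over a sheaf of commutative rings

`ten F G` is the sheafification of the tensor product of the underlying presheaves; sheafification
commutes with it, it is commutative, associative, unital and preserves colimits in each variable.
-/

universe v₁ u₁ u

open CategoryTheory MonoidalCategory Limits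

namespace Groth.Agent.Lib.ModTensor.Monoidal

variable {C : Type u₁} [Category.{v₁} C] {J : GrothendieckTopology C}
  [J.HasSheafCompose (forget₂ CommRingCat.{u} RingCat.{u})]
  (O : Sheaf J CommRingCat.{u})
  [J.WEqualsLocallyBijective AddCommGrpCat.{u}] [HasSheafify J AddCommGrpCat.{u}]

/-- The underlying sheaf of rings. -/
noncomputable abbrev rs : Sheaf J RingCat.{u} :=
  (sheafCompose J (forget₂ CommRingCat.{u} RingCat.{u})).obj O

/-- Presheaves of modules over `O`. -/
abbrev PM := PresheafOfModules.{u} (O.obj ⋙ forget₂ CommRingCat.{u} RingCat.{u})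

/-- Sheafification. -/
noncomputable abbrev L : PM O ⥤ SheafOfModules.{u} (rs O) :=
  (PresheafOfModules.sheafification.{u} (𝟙 (rs O).obj) :)

/-- The forgetful functor to presheaves of modules. -/
noncomputable abbrev G : SheafOfModules.{u} (rs O) ⥤ PM O :=
  SheafOfModules.forget (rs O)

/-- Sheafification is left adjoint to the forgetful functor. -/
noncomputable def adj : L O ⊣ G O :=
  ((PresheafOfModules.sheafificationAdjunction (𝟙 (rs O).obj) :)).ofNatIsoRight
    (eqToIso (rfl : (SheafOfModules.forget (rs O) ⋙
      PresheafOfModules.restrictScalars (𝟙 (rs O).obj)) = SheafOfModules.forget (rs O)))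

lemma isIso_counit : IsIso (adj O).counit :=
  have : (G O).Full := (SheafOfModules.fullyFaithfulForget (rs O)).full
  have : (G O).Faithful := (SheafOfModules.fullyFaithfulForget (rs O)).faithful
  have := (adj O).counit_isIso_of_R_fully_faithful
  this

variable {O}

theorem isIso_map_iff {P Q : PM O} (f : P ⟶ Q) :
    IsIso ((L O).map f) ↔
      PresheafOfModules.IsLocallyInjective J f ∧ PresheafOfModules.IsLocallySurjective J f := by
  have h := PresheafOfModules.inverseImage_W_toPresheaf_eq_inverseImage_isomorphisms
    (J := J) (𝟙 (rs O).obj)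
  have h' : J.W ((PresheafOfModules.toPresheaf _).map f) ↔ IsIso ((L O).map f) :=
    iff_of_eq (congrFun (congrFun (congrFun (congrArg (fun W => W) h) P) Q) f)
  exact h'.symm.trans (J.W_iff_isLocallyBijective _)

theorem isIso_map_whiskerRight {P Q : PM O} (f : P ⟶ Q) [IsIso ((L O).map f)] (N : PM O) :
    IsIso ((L O).map (f ▷ N)) := by
  obtain ⟨_, _⟩ := (isIso_map_iff f).1 inferInstance
  exact (isIso_map_iff _).2 ⟨Local.isLocallyInjective_whiskerRight J f N,
    Local.isLocallySurjective_whiskerRight J f N⟩

theorem isIso_map_whiskerLeft {P Q : PM O} (f : P ⟶ Q) [IsIso ((L O).map f)] (N : PM O) :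
    IsIso ((L O).map (N ◁ f)) := by
  obtain ⟨_, _⟩ := (isIso_map_iff f).1 inferInstance
  exact (isIso_map_iff _).2 ⟨Local.isLocallyInjective_whiskerLeft J f N,
    Local.isLocallySurjective_whiskerLeft J f N⟩

theorem isIso_map_tensorHom {P Q P' Q' : PM O} (f : P ⟶ Q) (g : P' ⟶ Q')
    [IsIso ((L O).map f)] [IsIso ((L O).map g)] : IsIso ((L O).map (f ⊗ₘ g)) := by
  have := isIso_map_whiskerRight f P'
  have := isIso_map_whiskerLeft g Q
  rw [MonoidalCategory.tensorHom_def, Functor.map_comp]
  infer_instance

variable (O)

/-- The counit of sheafification is an isomorphism. -/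
noncomputable def counitIso : G O ⋙ L O ≅ 𝟭 _ :=
  haveI : IsIso (adj O).counit := isIso_counit O
  asIso (adj O).counit

instance isIso_map_unit_app (P : PM O) : IsIso ((L O).map ((adj O).unit.app P)) := by
  have : IsIso (adj O).counit := isIso_counit O
  refine IsIso.of_isIso_fac_right ((adj O).left_triangle_components P)

variable {O}

/-- The tensor product of sheaves of modules. -/
noncomputable abbrev ten (F H : SheafOfModules.{u} (rs O)) : SheafOfModules.{u} (rs O) :=
  (L O).obj ((G O).obj F ⊗ (G O).obj H)

/-- `- ⊗ N` for a presheaf `N`, on sheaves. -/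
noncomputable abbrev tenRightP (N : PM O) : SheafOfModules.{u} (rs O) ⥤ SheafOfModules.{u} (rs O) :=
  G O ⋙ MonoidalCategory.tensorRight N ⋙ L O

/-- `- ⊗ H` on sheaves. -/
noncomputable abbrev tenRight (H : SheafOfModules.{u} (rs O)) :
    SheafOfModules.{u} (rs O) ⥤ SheafOfModules.{u} (rs O) :=
  tenRightP ((G O).obj H)

/-- `F ⊗ -` on sheaves. -/
noncomputable abbrev tenLeft (F : SheafOfModules.{u} (rs O)) :
    SheafOfModules.{u} (rs O) ⥤ SheafOfModules.{u} (rs O) :=
  G O ⋙ MonoidalCategory.tensorLeft ((G O).obj F) ⋙ L O

/-- Sheafifying the left factor does not change the sheafified tensor product. -/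
noncomputable def tensorRightCompIso (N : PM O) :
    MonoidalCategory.tensorRight N ⋙ L O ≅ L O ⋙ tenRightP N :=
  haveI : ∀ P, IsIso ((Functor.whiskerRight (Functor.whiskerRight (adj O).unit
      (MonoidalCategory.tensorRight N)) (L O)).app P) := fun P =>
    isIso_map_whiskerRight ((adj O).unit.app P) N
  haveI := NatIso.isIso_of_isIso_app (Functor.whiskerRight (Functor.whiskerRight (adj O).unit
      (MonoidalCategory.tensorRight N)) (L O))
  asIso (Functor.whiskerRight (Functor.whiskerRight (adj O).unit
      (MonoidalCategory.tensorRight N)) (L O))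

/-- Sheafifying the presheaf `N` does not change `- ⊗ N`. -/
noncomputable def tenRightPIso (N : PM O) : tenRightP N ≅ tenRight ((L O).obj N) :=
  NatIso.ofComponents
    (fun F =>
      haveI := isIso_map_whiskerLeft ((adj O).unit.app N) ((G O).obj F)
      asIso ((L O).map ((G O).obj F ◁ (adj O).unit.app N)))
    (fun {F F'} f => by
      dsimp
      rw [← Functor.map_comp, ← Functor.map_comp, ← whisker_exchange])

/-- Sheafification commutes with tensor products. -/
noncomputable def sheafifyTensorIso (P Q : PM O) :
    (L O).obj (P ⊗ Q) ≅ ten ((L O).obj P) ((L O).obj Q) :=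
  haveI := isIso_map_tensorHom ((adj O).unit.app P) ((adj O).unit.app Q)
  asIso ((L O).map ((adj O).unit.app P ⊗ₘ (adj O).unit.app Q))

/-- Commutativity of the tensor product. -/
noncomputable def tenComm (F H : SheafOfModules.{u} (rs O)) : ten F H ≅ ten H F :=
  (L O).mapIso (β_ _ _)

/-- Commutativity, naturally in one variable. -/
noncomputable def tenLeftIsoRight (F : SheafOfModules.{u} (rs O)) : tenLeft F ≅ tenRight F :=
  Functor.isoWhiskerLeft (G O) (Functor.isoWhiskerRight
    (BraidedCategory.tensorLeftIsoTensorRight ((G O).obj F)) (L O))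

/-- The structure sheaf is a unit for the tensor product. -/
noncomputable def tenRightUnitIso : tenRight (SheafOfModules.unit (rs O)) ≅ 𝟭 _ :=
  Functor.isoWhiskerLeft (G O) (Functor.isoWhiskerRight
    (rightUnitorNatIso (PM O)) (L O)) ≪≫ counitIso O

/-- The structure sheaf is a unit for the tensor product. -/
noncomputable def tenLeftUnitIso : tenLeft (SheafOfModules.unit (rs O)) ≅ 𝟭 _ :=
  Functor.isoWhiskerLeft (G O) (Functor.isoWhiskerRight
    (leftUnitorNatIso (PM O)) (L O)) ≪≫ counitIso O

/-- Associativity, naturally in the first variable. -/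
noncomputable def tenRightComp (H K : SheafOfModules.{u} (rs O)) :
    tenRight H ⋙ tenRight K ≅ tenRight (ten H K) :=
  Functor.isoWhiskerLeft (G O ⋙ MonoidalCategory.tensorRight ((G O).obj H))
      (tensorRightCompIso ((G O).obj K)).symm ≪≫
    Functor.isoWhiskerLeft (G O) (Functor.isoWhiskerRight
      (MonoidalCategory.tensorRightTensor ((G O).obj H) ((G O).obj K)).symm (L O)) ≪≫
    tenRightPIso _

/-- Associativity. -/
noncomputable def tenAssoc (F H K : SheafOfModules.{u} (rs O)) :
    ten (ten F H) K ≅ ten F (ten H K) :=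
  (tenRightComp H K).app F

end Groth.Agent.Lib.ModTensor.Monoidal
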